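import Mathlib
import Groth.Prelude

set_option autoImplicit false
universe u
open CategoryTheory CategoryTheory.Limits AlgebraicGeometry

namespace Groth.Agent.H14.GF

/-- (BR) Geometric fibres of the classifying family `h_X → h_{Spec k}` are the scheme-level base
changes of `X` to algebraically closed fields. -/
theorem geomFib_iff (S : Scheme.{u}) (k : Type u) [Field k] (t : Spec (CommRingCat.of k) ⟶ S)
    (X : Scheme.{u}) (p : X ⟶ Spec (CommRingCat.of k))
    (P : ∀ (Ω : Type u) [Field Ω] [IsAlgClosed Ω] (X' : Scheme.{u}),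
      (X' ⟶ Spec (CommRingCat.of Ω)) → (Fin 0 → ↥X') → Prop) :
    CurvSt.GeomFib P ((CurvSt.toSpFam S 0).obj ⟨Over.mk t, X, p, Fin.elim0, fun i => i.elim0⟩) ↔
      ∀ (Ω : Type u) [Field Ω] [IsAlgClosed Ω]
        (t' : Spec (CommRingCat.of Ω) ⟶ Spec (CommRingCat.of k)) (X' : Scheme.{u})
        (q : X' ⟶ Spec (CommRingCat.of Ω)) (ι : X' ⟶ X), IsPullback ι q p t' →
        ∀ m : Fin 0 → ↥X', P Ω X' q m := by
  set A : CurvSt.SpFamObj S 0 :=
    (CurvSt.toSpFam S 0).obj ⟨Over.mk t, X, p, Fin.elim0, fun i => i.elim0⟩ with hA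
  constructor
  · intro h Ω _ _ t' X' q ι sq m
    let ιO : A.ptOver (q ≫ t') ⟶ Over.mk (p ≫ t) :=
      Over.homMk ι (by
        show ι ≫ p ≫ t = (q ≫ t') ≫ t
        rw [← Category.assoc, sq.w])
    have sqO : IsPullback ιO (A.fibHom t' q) (Over.homMk p rfl : Over.mk (p ≫ t) ⟶ Over.mk t)
        (A.ptHom t') :=
      IsPullback.of_map (Over.forget S) (Over.OverMorphism.ext sq.w) sq
    have hP := sqO.map (AlgSp.yon S)
    have := h Ω t' X' q ((AlgSp.yon S).map ιO) hP
    convert this using 1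
  · intro h Ω _ _ t' X' q i hP
    let ιO : A.ptOver (q ≫ t') ⟶ Over.mk (p ≫ t) := (AlgSp.yon S).preimage i
    have hι : (AlgSp.yon S).map ιO = i := (AlgSp.yon S).map_preimage i
    have hP' : IsPullback ((AlgSp.yon S).map ιO) ((AlgSp.yon S).map (A.fibHom t' q))
        ((AlgSp.yon S).map (Over.homMk p rfl : Over.mk (p ≫ t) ⟶ Over.mk t))
        ((AlgSp.yon S).map (A.ptHom t')) := by
      rw [hι]; exact hP
    have sqO : IsPullback ιO (A.fibHom t' q) (Over.homMk p rfl : Over.mk (p ≫ t) ⟶ Over.mk t)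
        (A.ptHom t') := by
      refine IsPullback.of_map (AlgSp.yon S) ?_ hP'
      apply (AlgSp.yon S).map_injective
      exact ((AlgSp.yon S).map_comp _ _).trans (hP'.w.trans ((AlgSp.yon S).map_comp _ _).symm)
    have sq : IsPullback ιO.left q p t' := sqO.map (Over.forget S)
    exact h Ω t' X' q ιO.left sq _

end Groth.Agent.H14.GF
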