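import Mathlib
import Groth.Prelude
import Groth.Agent.H37.GeomDescentFlat

set_option autoImplicit false
universe u
open CategoryTheory CategoryTheory.Limits AlgebraicGeometry

namespace Groth.Agent.H14.GF

/-- (GEO) `geometrically P` can be tested on algebraically closed fields, for `P` descending along
flat surjective morphisms. -/
theorem geometrically_iff_algClosed {P : ObjectProperty Scheme.{u}}
    (hP : ∀ {Z' Z : Scheme.{u}} (p : Z' ⟶ Z), Surjective p → Flat p → P Z' → P Z)
    {X : Scheme.{u}} {k : Type u} [Field k] (p : X ⟶ Spec (CommRingCat.of k)) :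
    geometrically P p ↔
      ∀ (Ω : Type u) [Field Ω] [IsAlgClosed Ω]
        (t' : Spec (CommRingCat.of Ω) ⟶ Spec (CommRingCat.of k)) (X' : Scheme.{u})
        (q : X' ⟶ Spec (CommRingCat.of Ω)) (ι : X' ⟶ X), IsPullback ι q p t' → P X' := by
  constructor
  · intro h Ω _ _ t' X' q ι sq
    exact h t' ι q sq
  · intro h K _ y Z fst snd sq
    let j : Spec (CommRingCat.of (AlgebraicClosure K)) ⟶ Spec (CommRingCat.of K) :=
      Spec.map (CommRingCat.ofHom (algebraMap K (AlgebraicClosure K)))
    have hbig : IsPullback (pullback.fst snd j ≫ fst) (pullback.snd snd j) p (j ≫ y) :=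
      (IsPullback.of_hasPullback snd j).paste_horiz sq
    have hPX' : P (pullback snd j) :=
      h (AlgebraicClosure K) (j ≫ y) (pullback snd j) (pullback.snd snd j)
        (pullback.fst snd j ≫ fst) hbig
    haveI hjs : Surjective j := Groth.Agent.H37.surjective_specMap_field
    haveI hjf : Flat j := Groth.Agent.H37.flat_to_spec_field K j
    exact hP (pullback.fst snd j) inferInstance inferInstance hPX'

theorem geometricallyReduced_iff_algClosed {X : Scheme.{u}} {k : Type u} [Field k]
    (p : X ⟶ Spec (CommRingCat.of k)) :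
    GeometricallyReduced p ↔
      ∀ (Ω : Type u) [Field Ω] [IsAlgClosed Ω]
        (t' : Spec (CommRingCat.of Ω) ⟶ Spec (CommRingCat.of k)) (X' : Scheme.{u})
        (q : X' ⟶ Spec (CommRingCat.of Ω)) (ι : X' ⟶ X), IsPullback ι q p t' → IsReduced X' := by
  rw [geometricallyReduced_iff]
  exact geometrically_iff_algClosed (P := IsReduced)
    (fun p hs hf h => by
      haveI := hs; haveI := hf; haveI := h
      exact Groth.Agent.H37.isReduced_of_flat_surjective p) p

theorem geometricallyConnected_iff_algClosed {X : Scheme.{u}} {k : Type u} [Field k]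
    (p : X ⟶ Spec (CommRingCat.of k)) :
    GeometricallyConnected p ↔
      ∀ (Ω : Type u) [Field Ω] [IsAlgClosed Ω]
        (t' : Spec (CommRingCat.of Ω) ⟶ Spec (CommRingCat.of k)) (X' : Scheme.{u})
        (q : X' ⟶ Spec (CommRingCat.of Ω)) (ι : X' ⟶ X), IsPullback ι q p t' →
          ConnectedSpace ↥X' := by
  rw [geometricallyConnected_iff]
  exact geometrically_iff_algClosed (P := fun Z => ConnectedSpace ↥Z)
    (fun p hs _ h => by
      haveI := h
      exact Function.Surjective.connectedSpace p.surjective p.continuous) p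

end Groth.Agent.H14.GF
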