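import Mathlib
import Groth.Prelude
import Groth.Agent.H14.GF.Bridge
import Groth.Agent.H14.GF.Geo
import Groth.Agent.H9.DimBaseField

set_option autoImplicit false
universe u
open CategoryTheory CategoryTheory.Limits AlgebraicGeometry

namespace Groth.Agent.H14.GF

theorem main_reduced (S : Scheme.{u}) (k : Type u) [Field k] (t : Spec (CommRingCat.of k) ⟶ S)
    (X : Scheme.{u}) (p : X ⟶ Spec (CommRingCat.of k)) :
    CurvSt.GeomFib (fun _ _ _ X' _ _ => IsReduced X')
      ((CurvSt.toSpFam S 0).obj ⟨Over.mk t, X, p, Fin.elim0, fun i => i.elim0⟩) ↔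
      GeometricallyReduced p := by
  rw [geomFib_iff, geometricallyReduced_iff_algClosed]
  exact ⟨fun h Ω _ _ t' X' q ι sq => h Ω t' X' q ι sq Fin.elim0,
    fun h Ω _ _ t' X' q ι sq _ => h Ω t' X' q ι sq⟩

theorem dim_eq_of_isPullback {k Ω : Type u} [Field k] [Field Ω] {X X' : Scheme.{u}}
    (p : X ⟶ Spec (CommRingCat.of k)) [LocallyOfFiniteType p]
    (t' : Spec (CommRingCat.of Ω) ⟶ Spec (CommRingCat.of k))
    (q : X' ⟶ Spec (CommRingCat.of Ω)) (ι : X' ⟶ X) (sq : IsPullback ι q p t') :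
    topologicalKrullDim ↥X' = topologicalKrullDim ↥X := by
  have ht : Spec.map (Spec.preimage t') = t' := Spec.map_preimage t'
  rw [← ht] at sq
  exact Groth.Agent.H9.DimBaseField.topologicalKrullDim_eq_of_isPullback_field p (Spec.preimage t') ι q sq

theorem main_redConnDim (S : Scheme.{u}) (k : Type u) [Field k] (t : Spec (CommRingCat.of k) ⟶ S)
    (X : Scheme.{u}) (p : X ⟶ Spec (CommRingCat.of k)) [IsProper p] :
    CurvSt.GeomFib (fun _ _ _ X' _ _ => IsReduced X' ∧ ConnectedSpace ↥X' ∧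
        topologicalKrullDim ↥X' = 1)
      ((CurvSt.toSpFam S 0).obj ⟨Over.mk t, X, p, Fin.elim0, fun i => i.elim0⟩) ↔
      GeometricallyReduced p ∧ GeometricallyConnected p ∧ topologicalKrullDim ↥X = 1 := by
  rw [geomFib_iff, geometricallyReduced_iff_algClosed, geometricallyConnected_iff_algClosed]
  constructor
  · intro h
    refine ⟨fun Ω _ _ t' X' q ι sq => (h Ω t' X' q ι sq Fin.elim0).1,
      fun Ω _ _ t' X' q ι sq => (h Ω t' X' q ι sq Fin.elim0).2.1, ?_⟩
    let t₀ : Spec (CommRingCat.of (AlgebraicClosure k)) ⟶ Spec (CommRingCat.of k) :=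
      Spec.map (CommRingCat.ofHom (algebraMap k (AlgebraicClosure k)))
    have sq := IsPullback.of_hasPullback p t₀
    have h1 := (h (AlgebraicClosure k) t₀ (pullback p t₀) (pullback.snd p t₀)
      (pullback.fst p t₀) sq Fin.elim0).2.2
    rw [← dim_eq_of_isPullback p t₀ _ _ sq]
    exact h1
  · rintro ⟨hr, hc, hd⟩ Ω _ _ t' X' q ι sq _
    refine ⟨hr Ω t' X' q ι sq, hc Ω t' X' q ι sq, ?_⟩
    rw [dim_eq_of_isPullback p t' q ι sq]
    exact hd

end Groth.Agent.H14.GF
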