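import Mathlib
import Groth.Prelude
import Groth.Agent.H14.GF.Bridge
import Groth.Agent.H37.GeomDescentFlat
import Groth.Agent.H49.SmoothDescent
import Groth.Agent.H73.NS_CL
import Groth.Agent.H73.NS_F2

set_option autoImplicit false
universe u
open CategoryTheory CategoryTheory.Limits AlgebraicGeometry

namespace Groth.Agent.H14.GF

/-- (CL) in a Jacobson space, the points of a finite closed set are closed. -/
theorem isClosed_singleton_of_finite_isClosed {T : Type u} [TopologicalSpace T] [JacobsonSpace T]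
    (Z : Set T) (hZ : IsClosed Z) (hfin : Z.Finite) (x : T) (hx : x ∈ Z) :
    IsClosed ({x} : Set T) :=
  Groth.Agent.H73.NS_CL.isClosed_singleton_of_finite_isClosed Z hZ hfin x hx

/-- (F2) the base change of a scheme locally of finite type over a field to a field extension has
finite fibres over closed points. -/
theorem finite_preimage_of_isClosed {k Ω : Type u} [Field k] [Field Ω] {X X' : Scheme.{u}}
    (p : X ⟶ Spec (CommRingCat.of k)) [LocallyOfFiniteType p]
    (t' : Spec (CommRingCat.of Ω) ⟶ Spec (CommRingCat.of k))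
    (q : X' ⟶ Spec (CommRingCat.of Ω)) (ι : X' ⟶ X) (sq : IsPullback ι q p t')
    (x : X) (hx : IsClosed ({x} : Set X)) : (ι.base ⁻¹' {x}).Finite :=
  Groth.Agent.H73.NS_F2.finite_preimage_of_isClosed p t' q ι sq x hx

/-- (SL) -/
theorem exists_smooth_nhd_iff {X Y : Scheme.{u}} (p : X ⟶ Y) [LocallyOfFinitePresentation p]
    (x : X) : (∃ U : X.Opens, x ∈ U ∧ Smooth (U.ι ≫ p)) ↔ x ∈ p.smoothLocus := by
  constructor
  · rintro ⟨U, hxU, hsm⟩
    have h1 : (U.ι ≫ p).smoothLocus = ⊤ := Scheme.Hom.smoothLocus_eq_top_iff.mpr hsm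
    have h2 := Scheme.Hom.preimage_smoothLocus_eq U.ι p
    have hx' : (⟨x, hxU⟩ : U) ∈ U.ι ⁻¹ᵁ p.smoothLocus := by
      rw [h2, h1]; trivial
    exact hx'
  · intro hx
    exact ⟨p.smoothLocus, hx,
      Groth.Agent.H49.SmoothFibre.smooth_comp_of_le_smoothLocus p.smoothLocus.ι p (fun z => z.2)⟩

/-- (F1) -/
theorem mem_smoothLocus_iff_of_isPullback {k Ω : Type u} [Field k] [Field Ω] {X X' : Scheme.{u}}
    (p : X ⟶ Spec (CommRingCat.of k)) [LocallyOfFinitePresentation p]
    (t' : Spec (CommRingCat.of Ω) ⟶ Spec (CommRingCat.of k))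
    (q : X' ⟶ Spec (CommRingCat.of Ω)) [LocallyOfFinitePresentation q] (ι : X' ⟶ X)
    (sq : IsPullback ι q p t') (x' : X') :
    x' ∈ q.smoothLocus ↔ ι x' ∈ p.smoothLocus := by
  constructor
  · intro h
    refine Groth.Agent.H49.SmoothDescent.mem_smoothLocus_of_isPullback_of_flat sq x' ?_ h
    haveI := Groth.Agent.H37.flat_to_spec_field k t'
    exact Flat.stalkMap t' _
  · intro h
    exact Groth.Agent.H49.SmoothFibre.mem_smoothLocus_of_isPullback sq x' h

theorem main_ns (S : Scheme.{u}) (k : Type u) [Field k] (t : Spec (CommRingCat.of k) ⟶ S)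
    (X : Scheme.{u}) (p : X ⟶ Spec (CommRingCat.of k)) [IsProper p] :
    CurvSt.GeomFib (fun _ _ _ X' q _ => Set.Finite {x : ↥X' | ¬ ∃ U : X'.Opens, x ∈ U ∧
        Smooth (U.ι ≫ q)})
      ((CurvSt.toSpFam S 0).obj ⟨Over.mk t, X, p, Fin.elim0, fun i => i.elim0⟩) ↔
      Set.Finite {x : ↥X | ¬ ∃ U : X.Opens, x ∈ U ∧ Smooth (U.ι ≫ p)} := by
  haveI : LocallyOfFinitePresentation p :=
    LocallyOfFinitePresentation.iff_locallyOfFiniteType.mpr inferInstance
  have hset : {x : ↥X | ¬ ∃ U : X.Opens, x ∈ U ∧ Smooth (U.ι ≫ p)} =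
      ((p.smoothLocus : Set X))ᶜ := by
    ext x
    simp only [Set.mem_ofPred_eq, Set.mem_compl_iff, SetLike.mem_coe, exists_smooth_nhd_iff]
  have hpre : ∀ {Ω : Type u} [Field Ω] (t' : Spec (CommRingCat.of Ω) ⟶ Spec (CommRingCat.of k))
      (X' : Scheme.{u}) (q : X' ⟶ Spec (CommRingCat.of Ω)) (ι : X' ⟶ X), IsPullback ι q p t' →
      {x : ↥X' | ¬ ∃ U : X'.Opens, x ∈ U ∧ Smooth (U.ι ≫ q)} =
        ι.base ⁻¹' ((p.smoothLocus : Set X))ᶜ := by
    intro Ω _ t' X' q ι sq
    haveI : LocallyOfFinitePresentation q :=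
      MorphismProperty.of_isPullback (P := @LocallyOfFinitePresentation) sq inferInstance
    ext x'
    simp only [Set.mem_ofPred_eq, Set.mem_preimage, Set.mem_compl_iff, SetLike.mem_coe,
      exists_smooth_nhd_iff]
    rw [mem_smoothLocus_iff_of_isPullback p t' q ι sq x']
  rw [geomFib_iff, hset]
  constructor
  · intro h
    let t₀ : Spec (CommRingCat.of (AlgebraicClosure k)) ⟶ Spec (CommRingCat.of k) :=
      Spec.map (CommRingCat.ofHom (algebraMap k (AlgebraicClosure k)))
    have sq := IsPullback.of_hasPullback p t₀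
    have h1 := h (AlgebraicClosure k) t₀ (pullback p t₀) (pullback.snd p t₀)
      (pullback.fst p t₀) sq Fin.elim0
    rw [hpre t₀ _ _ _ sq] at h1
    haveI : Surjective t₀ := Groth.Agent.H37.surjective_specMap_field
    have hsurj : Function.Surjective (pullback.fst p t₀).base := (pullback.fst p t₀).surjective
    have := h1.image (pullback.fst p t₀).base
    rwa [Set.image_preimage_eq _ hsurj] at this
  · intro hfin Ω _ _ t' X' q ι sq _
    rw [hpre t' X' q ι sq]
    have hclosed : IsClosed ((p.smoothLocus : Set X))ᶜ := p.smoothLocus.isOpen.isClosed_compl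
    haveI : JacobsonSpace X := LocallyOfFiniteType.jacobsonSpace p
    have : ι.base ⁻¹' ((p.smoothLocus : Set X))ᶜ =
        ⋃ x ∈ ((p.smoothLocus : Set X))ᶜ, ι.base ⁻¹' {x} := by
      ext y; simp
    rw [this]
    exact hfin.biUnion (fun x hx => finite_preimage_of_isClosed p t' q ι sq x
      (isClosed_singleton_of_finite_isClosed _ hclosed hfin x hx))

end Groth.Agent.H14.GF
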